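import Mathlib
import Cfsg.Agent.Lib.ThreeTransp.Basic

/-!
Transpositions acting quadratically on an embedded elementary abelian module: the operators
`v ↦ v + d • v` determine commutation.
-/

set_option autoImplicit false
set_option linter.style.haveILetI false
set_option linter.unusedSectionVars false

namespace CfsgLib.CharsMore.ThreeClassUnique

open Cfsg CfsgLib.Involutions CfsgLib.ThreeTransp

variable {G M : Type*} [Group G] [AddCommGroup M] [DistribMulAction G M]

/-- An elementary abelian 2-subgroup, its conjugation action seen as a module. -/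
structure Base (i : M → G) : Prop where
  add : ∀ x y, i (x + y) = i x * i y
  inj : Function.Injective i
  equiv : ∀ (g : G) x, i (g • x) = g * i x * g⁻¹
  two : ∀ x : M, x + x = 0
  ker : ∀ g : G, (∀ v : M, g • v = v) → ∃ u, i u = g
  core : ∀ g : G, g * g = 1 → (∀ (x : G) (v : M), g • x • v = x • g • v) → ∀ v : M, g • v = v
  cen : ∀ u : M, (∀ g : G, g • u = u) → u = 0

/-- A class of 3-transpositions which is nontrivial and twin-free on the module. -/
structure TData (M : Type*) [AddCommGroup M] [DistribMulAction G M] (D : Set G) : Prop where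
  ts : IsThreeTranspositionSet D
  conj : ∀ g : G, ∀ d ∈ D, g * d * g⁻¹ ∈ D
  gen : Subgroup.closure D = ⊤
  cls : ∀ a ∈ D, ∀ b ∈ D, ∃ g : G, g * a * g⁻¹ = b
  moved : ∀ d ∈ D, ∃ v : M, d • v ≠ v
  twin : ∀ d ∈ D, ∀ a ∈ D, (∀ y ∈ D, Commute a y ↔ Commute d y) → ∀ v : M, d • v = a • v

/-- `v ↦ v + x • v`. -/
def mv (x : G) (v : M) : M := v + x • v

/-- The norm map of a rotation. -/
def nrm (t : G) (v : M) : M := v + t • v + t • t • v

/-- Equal action on the module. -/
def Same (M : Type*) [AddCommGroup M] [DistribMulAction G M] (a b : G) : Prop :=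
  ∀ v : M, a • v = b • v

variable {i : M → G} {D : Set G}

theorem Base.zsmul_even (hB : Base i) (n : ℤ) (h : n % 2 = 0) (x : M) : n • x = 0 := by
  obtain ⟨k, rfl⟩ := Int.dvd_of_emod_eq_zero h
  rw [mul_comm, mul_zsmul, two_zsmul, hB.two, smul_zero]

theorem Base.nsmul_even (hB : Base i) (n : ℕ) (h : n % 2 = 0) (x : M) : n • x = 0 := by
  obtain ⟨k, rfl⟩ := Nat.dvd_of_mod_eq_zero h
  rw [mul_comm, mul_nsmul', two_nsmul, hB.two, smul_zero]

theorem Base.eq_iff (hB : Base i) {x y : M} : x = y ↔ x + y = 0 :=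
  ⟨fun h => by rw [h, hB.two], fun h => by
    rw [eq_neg_of_add_eq_zero_left h]; exact (eq_neg_of_add_eq_zero_left (hB.two y)).symm⟩

theorem Base.zero (hB : Base i) : i 0 = 1 := by
  have h := hB.add 0 0
  rw [add_zero] at h
  exact left_eq_mul.1 h

theorem Base.inv (hB : Base i) (x : M) : (i x)⁻¹ = i x :=
  inv_eq_of_mul_eq_one_right (by rw [← hB.add, hB.two, hB.zero])

theorem Base.push (hB : Base i) (g : G) (x : M) : g * i x = i (g • x) * g := by
  rw [hB.equiv, inv_mul_cancel_right]

theorem mv_add (x : G) (u v : M) : mv x (u + v) = mv x u + mv x v := by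
  simp only [mv, smul_add]; abel

theorem mv_zero (x : G) : mv x (0 : M) = 0 := by simp [mv]

theorem mv_conj (g x : G) (v : M) : mv (g * x * g⁻¹) (g • v) = g • mv x v := by
  simp only [mv, smul_add, ← mul_smul, inv_mul_cancel_right]

theorem smul_mv_of_commute {g x : G} (h : Commute g x) (v : M) : g • mv x v = mv x (g • v) := by
  simp only [mv, smul_add, ← mul_smul, h.eq]

theorem Base.smul_eq (hB : Base i) (x : G) (v : M) : x • v = v + mv x v := by
  rw [mv, ← add_assoc, hB.two, zero_add]

theorem Base.mv_eq_zero (hB : Base i) {x : G} {v : M} : mv x v = 0 ↔ x • v = v := by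
  rw [mv, ← hB.eq_iff, eq_comm]

theorem smul_mv_self {x : G} (hx : x * x = 1) (v : M) : x • mv x v = mv x v := by
  rw [mv, smul_add, ← mul_smul, hx, one_smul, add_comm]

theorem Base.mv_mv (hB : Base i) {x : G} (hx : x * x = 1) (v : M) : mv x (mv x v) = 0 :=
  hB.mv_eq_zero.2 (smul_mv_self hx v)

theorem same_symm {a b : G} (h : Same M a b) : Same M b a := fun v => (h v).symm

theorem same_trans {a b c : G} (h : Same M a b) (h' : Same M b c) : Same M a c :=
  fun v => (h v).trans (h' v)

theorem same_conj {a b : G} (g : G) (h : Same M a b) :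
    Same M (g * a * g⁻¹) (g * b * g⁻¹) := fun v => by
  simp only [mul_smul]; rw [h]

theorem same_mv {a b : G} (h : Same M a b) (v : M) : mv a v = mv b v := by rw [mv, mv, h]

theorem reassoc_sq {c : G} (hc : c * c = 1) (x : G) : c * (c * x) = x := by
  rw [← mul_assoc, hc, one_mul]

theorem nrm_add (t : G) (u v : M) : nrm t (u + v) = nrm t u + nrm t v := by
  simp only [nrm, smul_add]; abel

theorem smul_nrm {t : G} (ht : t ^ 3 = 1) (v : M) : t • nrm t v = nrm t v := by
  have h3 : t • t • t • v = v := by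
    rw [← mul_smul, ← mul_smul, mul_assoc, ← pow_three, ht, one_smul]
  simp only [nrm, smul_add, h3]; abel

theorem nrm_mul_self {t : G} (ht : t ^ 3 = 1) (v : M) : nrm (t * t) v = nrm t v := by
  have h3 : t * t * (t * t) = t := by
    calc t * t * (t * t) = t ^ 3 * t := by rw [pow_three]; group
      _ = t := by rw [ht, one_mul]
  simp only [nrm, ← mul_smul, h3]; abel

theorem Base.nrm_fixed (hB : Base i) {t : G} {v : M} (h : t • v = v) : nrm t v = v := by
  rw [nrm, h, h, hB.two, zero_add]

section Class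

variable (hB : Base i) (hD : TData M D)
include hB hD

theorem sq_one {d : G} (hd : d ∈ D) : d * d = 1 := ts_mul_self hD.ts hd

theorem conj_self_mem {d a : G} (hd : d ∈ D) (ha : a ∈ D) : d * a * d ∈ D := by
  have h := hD.conj d a ha
  rwa [ts_inv hD.ts hd] at h

theorem translate_mem {d : G} (hd : d ∈ D) (v : M) : i (mv d v) * d ∈ D := by
  have h := hD.conj (i v) d hd
  rwa [hB.inv, mul_assoc, hB.push, ← mul_assoc, ← hB.add] at h

theorem rot_mul {d a : G} (hd : d ∈ D) (ha : a ∈ D) (hc : ¬ Commute d a) :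
    d * a * (d * a) = a * d := by
  have h := ts_cube hD.ts hd ha hc
  rw [pow_three] at h
  rw [eq_inv_of_mul_eq_one_right h, mul_inv_rev, ts_inv hD.ts hd, ts_inv hD.ts ha]

theorem fix_rot {d a : G} (hd : d ∈ D) (ha : a ∈ D) (hc : ¬ Commute d a) {v : M}
    (hv : (d * a) • v = v) : d • v = v ∧ a • v = v := by
  have hav : a • v = d • v := by
    conv_rhs => rw [← hv]
    rw [← mul_smul, ← mul_assoc, sq_one hB hD hd, one_mul]
  have hdv : d • v = v := by
    set w := mv d v with hw
    have hcw : Commute (i w) (d * a) := by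
      show i w * (d * a) = d * a * i w
      rw [hB.push (d * a) w]
      congr 2
      have e : (d * a) • d • v = d • v := by
        rw [← hav, ← mul_smul, mul_assoc, sq_one hB hD ha, mul_one, hav]
      rw [hw, mv, smul_add, hv, e]
    have hy := translate_mem hB hD hd v
    have h2 : (i w) ^ 2 = 1 := by rw [pow_two, ← hB.add, hB.two, hB.zero]
    rcases hD.ts.2 _ hy a ha with h | h
    · exfalso
      rw [mul_assoc, hcw.mul_pow, h2, one_mul] at h
      exact hc ((invol_commute_iff (hD.ts.1 d hd) (hD.ts.1 a ha)).2 h)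
    · rw [mul_assoc, hcw.mul_pow, ts_cube hD.ts hd ha hc, mul_one, pow_succ, h2, one_mul,
        ← hB.zero] at h
      exact hB.mv_eq_zero.1 (hB.inj h)
  exact ⟨hdv, hav.trans hdv⟩

theorem smul_rot_nrm {d a : G} (hd : d ∈ D) (ha : a ∈ D) (hc : ¬ Commute d a) (v : M) :
    d • nrm (d * a) v = nrm (d * a) (d • v) := by
  have h1 : d * (d * a) = d * a * (d * a) * d := by
    rw [rot_mul hB hD hd ha hc, mul_assoc, sq_one hB hD hd, mul_one, ← mul_assoc, sq_one hB hD hd,
      one_mul]
  have h2 : d * (d * a * (d * a)) = d * a * d := by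
    rw [rot_mul hB hD hd ha hc, mul_assoc]
  simp only [nrm, smul_add, ← mul_smul, h1, h2]
  simp only [mul_assoc]
  abel

theorem fix_nrm {d a : G} (hd : d ∈ D) (ha : a ∈ D) (hc : ¬ Commute d a) (v : M) :
    d • nrm (d * a) v = nrm (d * a) v ∧ a • nrm (d * a) v = nrm (d * a) v :=
  fix_rot hB hD hd ha hc (smul_nrm (ts_cube hD.ts hd ha hc) v)

theorem disj {d a : G} (hd : d ∈ D) (ha : a ∈ D) (hc : ¬ Commute d a) {v : M}
    (h : a • mv d v = mv d v) : mv d v = 0 := by
  have h1 : (d * a) • mv d v = mv d v := by rw [mul_smul, h, smul_mv_self (sq_one hB hD hd)]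
  rw [← hB.nrm_fixed h1, mv, nrm_add, ← smul_rot_nrm hB hD hd ha hc,
    (fix_nrm hB hD hd ha hc v).1, hB.two]

theorem braid {d a : G} (hd : d ∈ D) (ha : a ∈ D) (hc : ¬ Commute d a) (v : M) :
    mv d (mv a (mv d v)) = mv d v := by
  have h := smul_rot_nrm hB hD hd ha hc v
  rw [(fix_nrm hB hD hd ha hc v).1] at h
  have e1 : (d * a * (d * a)) • v = a • d • v := by rw [rot_mul hB hD hd ha hc, mul_smul]
  have e2 : (d * a * (d * a)) • d • v = a • v := by
    rw [rot_mul hB hD hd ha hc, ← mul_smul, mul_assoc, sq_one hB hD hd, mul_one]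
  have e3 : d • d • v = v := by rw [← mul_smul, sq_one hB hD hd, one_smul]
  rw [hB.eq_iff] at h
  rw [nrm, nrm, ← mul_smul (d * a) (d * a) v, ← mul_smul (d * a) (d * a) (d • v), e1, e2] at h
  simp only [mul_smul d a] at h
  rw [hB.eq_iff, ← h]
  simp only [mv, smul_add, e3]
  rw [← sub_eq_zero]
  abel_nf
  simp [hB.zsmul_even]

theorem comm_fix {d a : G} (hd : d ∈ D) (ha : a ∈ D) (hc : Commute d a) (v : M) :
    a • mv d v = mv d v := by
  set w := mv d v with hw
  have hy := translate_mem hB hD hd v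
  have hsq : (d * a) * (d * a) = 1 := by
    rw [← pow_two]; exact (invol_commute_iff (hD.ts.1 d hd) (hD.ts.1 a ha)).1 hc
  have hdaw : (d * a) • w = a • w := by
    rw [hc.eq, mul_smul, hw, smul_mv_self (sq_one hB hD hd)]
  have h2 : (i w * d * a) ^ 2 = i (w + a • w) := by
    rw [pow_two, mul_assoc (i w) d a, mul_assoc (i w) (d * a), ← mul_assoc (d * a) (i w),
      hB.push, mul_assoc (i _) (d * a), hsq, mul_one, ← hB.add, hdaw]
  have h4 : (i w * d * a) ^ 2 ^ 2 = 1 := by
    rw [show (2 : ℕ) ^ 2 = 2 * 2 from rfl, pow_mul, h2, pow_two, ← hB.add, hB.two, hB.zero]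
  have h1 := (invol_commute_iff (hD.ts.1 _ hy) (hD.ts.1 a ha)).1
    (ts_commute_of_twoPow hD.ts hy ha h4)
  rw [h2, ← hB.zero] at h1
  exact (hB.eq_iff.2 (hB.inj h1)).symm

theorem exists_mv_ne {d : G} (hd : d ∈ D) : ∃ v : M, mv d v ≠ 0 := by
  obtain ⟨v, hv⟩ := hD.moved d hd
  exact ⟨v, fun h => hv (hB.mv_eq_zero.1 h)⟩

theorem commute_of_fix {d a : G} (hd : d ∈ D) (ha : a ∈ D)
    (h : ∀ v : M, a • mv d v = mv d v) : Commute d a := by
  by_contra hc
  obtain ⟨v, hv⟩ := exists_mv_ne hB hD hd
  exact hv (disj hB hD hd ha hc (h v))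

theorem commute_same {d a y : G} (hd : d ∈ D) (ha : a ∈ D) (hy : y ∈ D) (h : Same M d a)
    (hc : Commute y d) : Commute y a :=
  commute_of_fix hB hD hy ha fun v => by rw [← h]; exact comm_fix hB hD hy hd hc v

theorem same_commute {d a : G} (hd : d ∈ D) (ha : a ∈ D) (h : Same M d a) : Commute d a :=
  commute_same hB hD hd ha hd h (Commute.refl d)

theorem meet {d a : G} (hd : d ∈ D) (ha : a ∈ D) {x v w : M} (hx : x ≠ 0) (h1 : mv d v = x)
    (h2 : mv a w = x) : Same M d a := by
  by_cases hc : Commute d a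
  · refine hD.twin d hd a ha fun y hy => ⟨fun hya => ?_, fun hyd => ?_⟩
    · by_contra hn
      apply hx
      rw [← h1]
      refine disj hB hD hd hy hn ?_
      rw [h1, ← h2]; exact comm_fix hB hD ha hy hya w
    · by_contra hn
      apply hx
      rw [← h2]
      refine disj hB hD ha hy hn ?_
      rw [h2, ← h1]; exact comm_fix hB hD hd hy hyd v
  · exfalso
    apply hx
    rw [← h1]
    refine disj hB hD hd ha hc ?_
    rw [h1, ← h2, smul_mv_self (sq_one hB hD ha)]

theorem same_of_fix {d a : G} (hd : d ∈ D) (ha : a ∈ D)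
    (h : ∀ v : M, d • v = v ↔ a • v = v) : Same M d a := by
  have hc : Commute d a := commute_of_fix hB hD hd ha fun v =>
    (h _).1 (smul_mv_self (sq_one hB hD hd) v)
  refine hD.twin d hd a ha fun y hy => ⟨fun hya => ?_, fun hyd => ?_⟩
  · exact (commute_of_fix hB hD hy hd fun v => (h _).2 (comm_fix hB hD hy ha hya.symm v)).symm
  · exact (commute_of_fix hB hD hy ha fun v => (h _).1 (comm_fix hB hD hy hd hyd.symm v)).symm

theorem decomp {d c : G} (hd : d ∈ D) (hc : c ∈ D) (hn : ¬ Commute d c) (v : M) :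
    ∃ a b : M, v = nrm (d * c) v + mv d a + mv c b := by
  refine ⟨c • v + v, v + d • v, ?_⟩
  have e : (d * c) • (d * c) • v = c • d • v := by
    rw [← mul_smul, rot_mul hB hD hd hc hn, mul_smul]
  rw [nrm, e]
  simp only [mul_smul d c, mv, smul_add]
  rw [← sub_eq_zero]
  abel_nf
  simp [hB.zsmul_even]

theorem split_fixed {d c : G} (hd : d ∈ D) (hc : c ∈ D) (hn : ¬ Commute d c) {a b : M}
    (h : c • (mv d a + mv c b) = mv d a + mv c b) : mv d a + mv c b = mv c b := by
  rw [smul_add, smul_mv_self (sq_one hB hD hc)] at h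
  rw [disj hB hD hd hc hn (add_right_cancel h), zero_add]

/-- Three transpositions in affine position move independently. -/
theorem affine_inj {b d c : G} (hb : b ∈ D) (hd : d ∈ D) (hc : c ∈ D) (hbd : ¬ Commute b d)
    (hbc : ¬ Commute b c) (hdc : ¬ Commute d c) (hb3 : ¬ Commute b (c * d * c)) {z a a' : M}
    (h : mv b z = mv d a + mv c a') : mv b z = 0 := by
  have hc1 := sq_one hB hD hc
  have hbc' : c * b * c⁻¹ = c * b * c := by rw [ts_inv hD.ts hc]
  have hd' : ¬ Commute d (c * b * c) := fun hcm => hb3 (by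
    have := ((commute_conj_iff c).2 hcm).symm
    rw [ts_inv hD.ts hc] at this
    simpa [mul_assoc, reassoc_sq hc1, hc1] using this)
  have key : ∀ q : M, mv d (mv b (mv c (mv d q))) + mv d (mv c (mv b (mv d q))) = mv d q := by
    intro q
    set x := mv d q with hx
    have h0 := braid hB hD hd (conj_self_mem hB hD hc hb) hd' q
    have e : mv (c * b * c) x = c • mv b (c • x) := by
      rw [← mv_conj, ts_inv hD.ts hc, ← mul_smul c c, hc1, one_smul]
    have e1 : mv d (mv b x) = x := braid hB hD hd hb (fun h => hbd h.symm) q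
    have e2 : mv d (mv c (mv b (mv c x))) = x := by
      rw [braid hB hD hc hb (fun h => hbc h.symm)]; exact braid hB hD hd hc hdc q
    rw [e, hB.smul_eq c x, mv_add b, hB.smul_eq c (mv b x + _), mv_add c, mv_add d, mv_add d,
      mv_add d, e1, e2, hB.eq_iff, ← hx] at h0
    rw [hB.eq_iff, ← h0, ← sub_eq_zero]
    abel_nf
    simp [hB.zsmul_even]
  have hu : mv d (mv b (mv d a)) = mv d a := braid hB hD hd hb (fun h => hbd h.symm) a
  have hu' : mv d (mv c (mv d a)) = mv d a := braid hB hD hd hc hdc a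
  have hx : mv d (mv b z) = mv d (mv c a') := by
    rw [h, mv_add, hB.mv_mv (sq_one hB hD hd), zero_add]
  have hv : mv c (mv d (mv b z)) = mv c a' := by
    rw [hx, braid hB hD hc hd (fun h => hdc h.symm)]
  have hw : mv b (mv d (mv b z)) = mv b z := braid hB hD hb hd hbd z
  have hBuv : mv b (mv d a) = mv b (mv c a') := by
    rw [hB.eq_iff, ← mv_add, ← h, hB.mv_mv (sq_one hB hD hb)]
  have hCu : mv c (mv b z) = mv c (mv d a) := by
    rw [h, mv_add, hB.mv_mv hc1, add_zero]
  have h0 := key (mv b z)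
  rw [hv, ← hBuv, hu, hw, hCu, hu', hB.two] at h0
  rw [← hw, ← h0, mv_zero]

end Class

end CfsgLib.CharsMore.ThreeClassUnique
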