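import Cfsg.Agent.Lib.CharsMore.ThreeClassUnique.Mixed

/-!
A group with an elementary abelian self-centralising 2-core and trivial centre has one class of
3-transpositions.
-/

set_option autoImplicit false
set_option linter.style.haveILetI false
set_option linter.unusedSectionVars false

namespace CfsgLib.CharsMore.ThreeClassUnique

open Cfsg CfsgLib.Involutions CfsgLib.ThreeTransp

variable {G M : Type*} [Group G] [AddCommGroup M] [DistribMulAction G M]
variable {i : M → G} {D E : Set G}
variable (hB : Base i) (hD : TData M D) (hE : TData M E)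

theorem Base.triv (hB : Base i) (u v : M) : i u • v = v := by
  apply hB.inj
  rw [hB.equiv, ← hB.add, add_comm, hB.add, mul_inv_cancel_right]

/-- `y * i u` is a member of the second class over `y`. -/
def Lift (i : M → G) (E : Set G) (y : G) (u : M) : Prop := y * i u ∈ E ∧ y • u = u

include hB hD hE in
theorem exists_lift {y : G} (hy : y ∈ D) {e₀ : G} (he₀ : e₀ ∈ E) : ∃ u : M, Lift i E y u := by
  obtain ⟨d₀, hd₀, h⟩ := exists_same hB hD hE he₀
  obtain ⟨g, rfl⟩ := hD.cls d₀ hd₀ y hy
  have hs := same_conj g h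
  set y := g * d₀ * g⁻¹
  have he := hE.conj g e₀ he₀
  set e := g * e₀ * g⁻¹
  obtain ⟨u, hu⟩ := hB.ker (y * e) fun v => by
    rw [mul_smul, hs, ← mul_smul, sq_one hB hD hy, one_smul]
  have hye : y * i u = e := by rw [hu, ← mul_assoc, sq_one hB hD hy, one_mul]
  refine ⟨u, hye.symm ▸ he, ?_⟩
  have h2 := sq_one hB hE he
  rw [← hye, hB.push, mul_assoc (i _) y, ← mul_assoc y (i (y • u)), hB.push, ← mul_smul,
    sq_one hB hD hy, one_smul, mul_assoc (i u) y, sq_one hB hD hy, mul_one, ← hB.add,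
    ← hB.zero] at h2
  exact hB.eq_iff.2 (hB.inj h2)

theorem lift_same (hB : Base i) (y : G) (u : M) : Same M (y * i u) y :=
  fun v => by rw [mul_smul, hB.triv]

theorem lift_eq (hB : Base i) {y : G} {u : M} (h : Lift i E y u) : y * i u = i u * y := by
  rw [hB.push, h.2]

include hB hD hE in
theorem lift_commute {d a : G} (hd : d ∈ D) (ha : a ∈ D) {u w : M} (hu : Lift i E d u)
    (hw : Lift i E a w) (hc : Commute d a) : mv a u = mv d w := by
  have hcE : Commute (d * i u) (a * i w) := commute_of_fix hB hE hu.1 hw.1 fun v => by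
    rw [same_mv (lift_same hB d u), lift_same hB a w]
    exact comm_fix hB hD hd ha hc v
  have h := hcE.eq
  rw [lift_eq hB hu, lift_eq hB hw] at h
  have e1 : i u * d * (i w * a) = i (u + d • w) * (d * a) := by
    rw [mul_assoc, ← mul_assoc d, hB.push, mul_assoc, ← mul_assoc, ← hB.add]
  have e2 : i w * a * (i u * d) = i (w + a • u) * (d * a) := by
    rw [hc.eq, mul_assoc, ← mul_assoc a, hB.push, mul_assoc, ← mul_assoc, ← hB.add]
  rw [e1, e2] at h
  have h' := hB.inj (mul_right_cancel h)
  rw [hB.eq_iff] at h' ⊢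
  rw [← h']
  simp only [mv]
  abel

include hB hD hE in
theorem lift_pair {d a : G} (hd : d ∈ D) (ha : a ∈ D) {u w : M} (hu : Lift i E d u)
    (hw : Lift i E a w) (hc : ¬ Commute d a) : nrm (d * a) u = nrm (d * a) w := by
  have hnE : ¬ Commute (d * i u) (a * i w) := fun h => hc <| commute_of_fix hB hD hd ha fun v => by
    rw [← same_mv (lift_same hB d u), ← lift_same hB a w]
    exact comm_fix hB hE hu.1 hw.1 h v
  have h := ts_cube hE.ts hu.1 hw.1 hnE
  set t := d * a with ht
  have ht3 : t * (t * t) = 1 := by rw [← pow_three]; exact ts_cube hD.ts hd ha hc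
  have e0 : d * i u * (a * i w) = i u * t * i w := by
    rw [lift_eq hB hu, ht]; simp only [mul_assoc]
  have e1 : ∀ (x : M) (y : G), t * (i x * y) = i (t • x) * (t * y) := fun x y => by
    rw [← mul_assoc, hB.push, mul_assoc]
  have e2 : ∀ (x y : M) (z : G), i x * (i y * z) = i (x + y) * z := fun x y z => by
    rw [← mul_assoc, ← hB.add]
  rw [e0, pow_three] at h
  simp only [mul_assoc, e1, e2, hB.push t, smul_add] at h
  rw [← mul_smul t t, ht3, mul_one, ← hB.zero] at h
  rw [hB.eq_iff, ← nrm_add, ← hB.inj h]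
  have ht3' : t • t • t • w = w := by
    rw [← mul_smul, ← mul_smul, mul_assoc, ht3, one_smul]
  simp only [nrm, smul_add, ← mul_smul] at ht3' ⊢
  rw [ht3, one_smul]
  abel

include hB hD in
theorem residue {d a : G} (hd : d ∈ D) (ha : a ∈ D) (hc : ¬ Commute d a) {u : M}
    (hu : d • u = u) : ∃ α : M, u = nrm (d * a) u + mv d α := by
  obtain ⟨a', b, h⟩ := decomp hB hD hd ha hc u
  refine ⟨a', ?_⟩
  have hf : d • (mv a b + mv d a') = mv a b + mv d a' := by
    have : mv a b + mv d a' = u + nrm (d * a) u := by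
      conv_rhs => lhs; rw [h]
      rw [← sub_eq_zero]
      abel_nf
      simp [hB.zsmul_even]
    rw [this, smul_add, hu, (fix_nrm hB hD hd ha hc u).1]
  have := split_fixed hB hD ha hd (fun x => hc x.symm) hf
  rw [add_eq_right] at this
  conv_lhs => rw [h, this, add_zero]

include hB hD in
theorem exists_partner {d : G} (hd : d ∈ D) : ∃ a ∈ D, ¬ Commute d a := by
  by_contra h
  push Not at h
  have hcen : ∀ g : G, Commute g d := by
    intro g
    have hg : g ∈ Subgroup.closure D := by rw [hD.gen]; exact Subgroup.mem_top g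
    induction hg using Subgroup.closure_induction with
    | mem y hy => exact (h y hy).symm
    | one => exact Commute.one_left d
    | mul x y _ _ hx hy => exact hx.mul_left hy
    | inv x _ hx => exact hx.inv_left
  obtain ⟨v, hv⟩ := exists_mv_ne hB hD hd
  obtain ⟨g, hg⟩ := hD.cls d hd _ (translate_mem hB hD hd v)
  rw [(hcen g).eq, mul_inv_cancel_right, right_eq_mul, ← hB.zero] at hg
  exact hv (hB.inj hg)

include hB hD hE in
/-- The second class meets the first one. -/
theorem meets {e₀ d₀ : G} (he₀ : e₀ ∈ E) (hd₀ : d₀ ∈ D) : ∃ e ∈ E, e ∈ D := by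
  have hex : ∀ y : G, ∃ u : M, y ∈ D → Lift i E y u := fun y => by
    by_cases hy : y ∈ D
    · obtain ⟨u, hu⟩ := exists_lift hB hD hE hy he₀
      exact ⟨u, fun _ => hu⟩
    · exact ⟨0, fun h => absurd h hy⟩
  choose u hu using hex
  set cv : G → G → M := fun d a => nrm (d * a) (u d) with hcv
  have hsymm : ∀ {d a : G}, d ∈ D → a ∈ D → ¬ Commute d a → cv a d = cv d a := by
    intro d a hd ha hc
    simp only [hcv]
    rw [← rot_mul hB hD hd ha hc, nrm_mul_self (ts_cube hD.ts hd ha hc),
      ← lift_pair hB hD hE hd ha (hu d hd) (hu a ha) hc]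
  have hres : ∀ {d a : G}, d ∈ D → a ∈ D → ¬ Commute d a →
      ∃ α : M, u d = cv d a + mv d α :=
    fun hd ha hc => residue hB hD hd ha hc (hu _ hd).2
  have hdiff : ∀ {d a b : G}, d ∈ D → a ∈ D → b ∈ D → ¬ Commute d a → ¬ Commute d b →
      ∃ γ : M, cv d a + cv d b = mv d γ := by
    intro d a b hd ha hb h1 h2
    obtain ⟨α, hα⟩ := hres hd ha h1
    obtain ⟨β, hβ⟩ := hres hd hb h2
    refine ⟨α + β, ?_⟩
    rw [hα] at hβ
    rw [mv_add, hB.eq_iff]
    rw [hB.eq_iff] at hβ
    rw [← hβ]
    abel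
  have step1 : ∀ {d a b : G}, d ∈ D → a ∈ D → b ∈ D → ¬ Commute d a → ¬ Commute a b →
      Commute d b → cv a b = cv d a := by
    intro d a b hd ha hb hda hab hdb
    obtain ⟨γ, hγ⟩ := hdiff ha hd hb (fun h => hda h.symm) hab
    rw [hsymm hd ha hda] at hγ
    obtain ⟨α, hα⟩ := hres hd ha hda
    obtain ⟨β, hβ⟩ := hres hb ha (fun h => hab h.symm)
    have h := lift_commute hB hD hE hd hb (hu d hd) (hu b hb) hdb
    rw [hα, hβ, mv_add, mv_add, hB.mv_eq_zero.2 (comm_fix hB hD hd hb hdb α),
      hB.mv_eq_zero.2 (comm_fix hB hD hb hd hdb.symm β), add_zero, add_zero, hsymm ha hb hab] at h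
    have hb' : b • cv a b = cv a b := (fix_nrm hB hD ha hb hab _).2
    have hd' : d • cv d a = cv d a := (fix_nrm hB hD hd ha hda _).1
    have hx : mv b (cv d a + cv a b) = mv d (cv d a + cv a b) := by
      rw [mv_add, mv_add, hB.mv_eq_zero.2 hb', hB.mv_eq_zero.2 hd', add_zero, zero_add, h]
    rw [hγ] at hx
    have hz : mv b (mv a γ) = 0 := by
      by_contra hne
      have hs := meet hB hD hd hb hne hx.symm rfl
      rw [← hγ, mv_add, hB.mv_eq_zero.2 hb', hB.mv_eq_zero.2 ((hs _).symm.trans hd'),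
        add_zero] at hne
      exact hne rfl
    rw [disj hB hD ha hb hab (hB.mv_eq_zero.1 hz)] at hγ
    exact (hB.eq_iff.2 hγ).symm
  have chain : ∀ {d a b : G}, d ∈ D → a ∈ D → b ∈ D → ¬ Commute d a → ¬ Commute a b →
      cv a b = cv d a := by
    intro d a b hd ha hb hda hab
    by_cases hdb : Commute d b
    · exact step1 hd ha hb hda hab hdb
    have ha2 := sq_one hB hD ha
    by_cases hrb : Commute (a * d * a) b
    · have hr : a * d * a ∈ D := conj_self_mem hB hD ha hd
      have hra : ¬ Commute (a * d * a) a := fun h => hda (by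
        have := (commute_conj_iff a).2 h
        rw [ts_inv hD.ts ha] at this
        simpa [mul_assoc, ha2, reassoc_sq ha2] using this)
      rw [step1 hr ha hb hra hab hrb, ← hsymm hr ha hra]
      simp only [hcv]
      rw [show a * (a * d * a) = d * a by simp only [mul_assoc, reassoc_sq ha2]]
      exact (lift_pair hB hD hE hd ha (hu d hd) (hu a ha) hda).symm
    obtain ⟨γ, hγ⟩ := hdiff ha hd hb (fun h => hda h.symm) hab
    rw [hsymm hd ha hda] at hγ
    obtain ⟨δ, hδ⟩ := hdiff hd ha hb hda hdb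
    obtain ⟨ε, hε⟩ := hdiff hb hd ha (fun h => hdb h.symm) (fun h => hab h.symm)
    rw [hsymm hd hb hdb, hsymm ha hb hab] at hε
    have hsum : mv b ε = mv d δ + mv a γ := by
      rw [← hε, ← hδ, ← hγ, ← sub_eq_zero]
      abel_nf
      simp [hB.zsmul_even]
    have h0 := affine_inj hB hD hb hd ha (fun h => hdb h.symm) (fun h => hab h.symm) hda
      (fun h => hrb h.symm) hsum
    rw [h0, eq_comm, ← hB.eq_iff] at hsum
    have hf : d • mv a γ = mv a γ := by rw [← hsum, smul_mv_self (sq_one hB hD hd)]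
    rw [disj hB hD ha hd (fun h => hda h.symm) hf] at hγ
    exact (hB.eq_iff.2 hγ).symm
  obtain ⟨a₀, ha₀, hc₀⟩ := exists_partner hB hD hd₀
  set C := cv d₀ a₀ with hC
  set P : G → Prop := fun y => y ∈ D ∧ ∃ x ∈ D, ¬ Commute y x ∧ cv y x = C with hP
  have hnext : ∀ {y z : G}, P y → z ∈ D → ¬ Commute y z → P z := by
    intro y z hy hz hyz
    obtain ⟨hy, x, hx, hxy, hxC⟩ := hy
    refine ⟨hz, y, hy, fun h => hyz h.symm, ?_⟩
    rw [hsymm hy hz hyz, chain hx hy hz (fun h => hxy h.symm) hyz,
      hsymm hy hx hxy, hxC]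
  have hgen : ∀ z ∈ D, ∀ y, P y → P (z * y * z⁻¹) := by
    intro z hz y hy
    rw [ts_inv hD.ts hz]
    by_cases hc : Commute z y
    · rwa [commute_mul_self (hD.ts.1 z hz) hc]
    refine hnext hy (conj_self_mem hB hD hz hy.1) fun h => hc ?_
    have h' := h
    rw [ts_braid hD.ts hz hy.1 hc] at h'
    have : y * z * y = y * (y * z * y) * y := by
      rw [h'.eq]; simp only [mul_assoc, sq_one hB hD hy.1, mul_one]
    simp only [mul_assoc, reassoc_sq (sq_one hB hD hy.1), sq_one hB hD hy.1, mul_one] at this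
    show z * y = y * z
    conv_rhs => rw [← mul_one z, ← sq_one hB hD hy.1, ← mul_assoc z, ← mul_assoc]
    rw [show y * (z * y) = z from this, ]
  have hall : ∀ g : G, ∀ y, P y → P (g * y * g⁻¹) := by
    intro g
    have hg : g ∈ Subgroup.closure D := by rw [hD.gen]; exact Subgroup.mem_top g
    induction hg using Subgroup.closure_induction'' with
    | mem z hz => exact hgen z hz
    | inv_mem z hz => rw [ts_inv hD.ts hz]; exact hgen z hz
    | one => intro y hy; simpa using hy
    | mul g h _ _ ihg ihh =>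
        intro y hy
        have := ihg _ (ihh y hy)
        simpa [mul_assoc] using this
  have hfixC : ∀ y ∈ D, y • C = C := by
    intro y hy
    obtain ⟨g, rfl⟩ := hD.cls d₀ hd₀ y hy
    obtain ⟨hyD, x, hx, hxy, hxC⟩ := hall g d₀ ⟨hd₀, a₀, ha₀, hc₀, rfl⟩
    rw [← hxC]
    exact (fix_nrm hB hD hyD hx hxy _).1
  have hC0 : C = 0 := hB.cen C fun g => by
    have hg : g ∈ Subgroup.closure D := by rw [hD.gen]; exact Subgroup.mem_top g
    induction hg using Subgroup.closure_induction with
    | mem y hy => exact hfixC y hy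
    | one => exact one_smul _ _
    | mul x y _ _ hx hy => rw [mul_smul, hy, hx]
    | inv x _ hx => rw [inv_smul_eq_iff, hx]
  obtain ⟨α, hα⟩ := hres hd₀ ha₀ hc₀
  rw [← hC, hC0, zero_add] at hα
  refine ⟨d₀ * i (u d₀), (hu d₀ hd₀).1, ?_⟩
  rw [lift_eq hB (hu d₀ hd₀), hα]
  exact translate_mem hB hD hd₀ α

end CfsgLib.CharsMore.ThreeClassUnique
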