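import Cfsg.Agent.Lib.CharsMore.ThreeClassUnique.Core

/-!
Two classes of 3-transpositions on the module have the same image.
-/

set_option autoImplicit false
set_option linter.style.haveILetI false
set_option linter.unusedSectionVars false

namespace CfsgLib.CharsMore.ThreeClassUnique

open Cfsg CfsgLib.Involutions CfsgLib.ThreeTransp

variable {G M : Type*} [Group G] [AddCommGroup M] [DistribMulAction G M]
variable {i : M → G} {D E : Set G}
variable (hB : Base i) (hD : TData M D) (hE : TData M E)

include hB hD hE in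
theorem conj_fix {d e : G} (hd : d ∈ D) (he : e ∈ E) (hc : Commute d (e * d * e)) {x : M}
    (hx : d • x = x) (hne : ¬ Same M d (e * d * e)) : (e * d * e) • x = x := by
  have he2 : e * e = 1 := sq_one hB hE he
  have hd2 : d * d = 1 := sq_one hB hD hd
  have hde : d * e * d⁻¹ ∈ E := hE.conj d e he
  have hcee : Commute (d * e * d⁻¹) e := by
    have hd' : e * d * e ∈ D := by
      have := hD.conj e d hd; rwa [ts_inv hE.ts he] at this
    rw [invol_commute_iff (hE.ts.1 _ hde) (hE.ts.1 e he), ts_inv hD.ts hd]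
    have h := (invol_commute_iff (hD.ts.1 d hd) (hD.ts.1 _ hd')).1 hc
    rw [← h]; simp only [mul_assoc]
  have hEDE : ∀ v : M, e • mv d (mv e v) = mv d (mv e v) := by
    intro v
    have h := comm_fix hB hE hde he hcee (d • v)
    rw [mv_conj] at h
    rw [mv, smul_add, smul_mv_self he2, h]
  by_contra hfx
  apply hne
  have e1 : mv (e * d * e) x = e • mv d (e • x) := by
    have h := mv_conj (M := M) e d (e • x)
    rwa [← mul_smul e e, he2, one_smul, ts_inv hE.ts he] at h
  have e2 : mv (e * d * e) x = mv d (e • x) := by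
    rw [e1, hB.smul_eq e x, mv_add, hB.mv_eq_zero.2 hx, zero_add, hEDE]
  refine meet hB hD hd (by have := hD.conj e d hd; rwa [ts_inv hE.ts he] at this) ?_ e2.symm rfl
  exact fun h => hfx (hB.mv_eq_zero.1 h)

include hB hD hE in
theorem dichotomy {d e : G} (hd : d ∈ D) (he : e ∈ E) :
    Same M d (e * d * e) ∨ ¬ Commute d (e * d * e) := by
  by_contra h
  push Not at h
  obtain ⟨hn, hc⟩ := h
  have he2 : e * e = 1 := sq_one hB hE he
  have hd' : e * d * e ∈ D := by have := hD.conj e d hd; rwa [ts_inv hE.ts he] at this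
  have hback : e * (e * d * e) * e = d := by
    simp only [mul_assoc, he2, mul_one, reassoc_sq he2]
  refine hn (same_of_fix hB hD hd hd' fun v => ⟨fun hv => conj_fix hB hD hE hd he hc hv hn,
    fun hv => ?_⟩)
  have h := conj_fix hB hD hE hd' he (by rw [hback]; exact hc.symm) hv
    (by rw [hback]; exact fun h => hn (same_symm h))
  rwa [hback] at h

include hB hD hE in
/-- The facts about a transposition moved by `e` to a non-commuting one. -/
theorem triangle {d e : G} (hd : d ∈ D) (he : e ∈ E) (hn : ¬ Commute d (e * d * e)) :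
    d * (e * d * e) * d ∈ D ∧ ¬ Commute d (d * (e * d * e) * d) ∧
    Commute e (d * (e * d * e) * d) ∧ Commute (e * (d * (e * d * e) * d)) d ∧
    d * (e * d * e) * d * d * (d * (e * d * e) * d) = e * d * e ∧
    (∀ v : M, d • v = v → (d * (e * d * e) * d) • v = v → (e * (d * (e * d * e) * d)) • v = v) := by
  have he2 : e * e = 1 := sq_one hB hE he
  have hd2 : d * d = 1 := sq_one hB hD hd
  have hd' : e * d * e ∈ D := by have := hD.conj e d hd; rwa [ts_inv hE.ts he] at this
  have hb := ts_braid hD.ts hd hd' hn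
  set d' := e * d * e with hdd'
  have hed : e * d' * e = d := by
    simp only [hdd', mul_assoc, he2, mul_one, reassoc_sq he2]
  set c := d * d' * d with hc
  have hcD : c ∈ D := conj_self_mem hB hD hd hd'
  have hnc : ¬ Commute d c := by
    intro h
    apply hn
    have h' := (commute_conj_iff d).2 h
    rw [ts_inv hD.ts hd] at h'
    simpa [hc, mul_assoc, hd2, reassoc_sq hd2] using h'
  have hcdc : c * d * c = d' := by
    have : c * d * c = d * (d' * d * d') * d := by
      simp only [hc, mul_assoc, reassoc_sq hd2]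
    rw [this, ← hb, hc]
    simp only [mul_assoc, hd2, mul_one, reassoc_sq hd2]
  have hec : Commute e c := by
    have h1 : e * c * e = c := by
      have : e * c * e = (e * d * e) * (e * d' * e) * (e * d * e) := by
        simp only [hc, mul_assoc, reassoc_sq he2]
      rw [this, hed, ← hdd', ← hb]
    show e * c = c * e
    conv_rhs => rw [← h1]
    rw [mul_assoc _ e e, he2, mul_one]
  refine ⟨hcD, hnc, hec, ?_, hcdc, fun v hv hcv => ?_⟩
  · show e * c * d = d * (e * c)
    have h1 : e * c * d * (c * e) = d := by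
      calc e * c * d * (c * e) = e * (c * d * c) * e := by simp only [mul_assoc]
        _ = d := by rw [hcdc, hed]
    conv_rhs => rw [← h1, hec.eq, mul_assoc _ (c * e) (c * e)]
    rw [show c * e * (c * e) = 1 by
      rw [← mul_assoc, mul_assoc c e c, hec.eq, ← mul_assoc c c e, sq_one hB hD hcD, one_mul, he2],
      mul_one, hec.eq]
  · have hd'v : d' • v = v := by rw [← hcdc, mul_smul, mul_smul, hcv, hv, hcv]
    have hde : d * e * d ∈ E := by have := hE.conj d e he; rwa [ts_inv hD.ts hd] at this
    have hprod : d * e * d * e = d * d' := by simp only [hdd', mul_assoc]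
    have hne : ¬ Commute (d * e * d) e := by
      rw [invol_commute_iff (hE.ts.1 _ hde) (hE.ts.1 e he), hprod,
        ← invol_commute_iff (hD.ts.1 d hd) (hD.ts.1 _ hd')]
      exact hn
    have h := (fix_rot hB hE hde he hne (v := v) (by rw [hprod, mul_smul, hd'v, hv])).2
    rw [mul_smul, hcv, h]

include hB hD in
/-- A pair centralised by a nontrivial `s` fixing its common fixed points is isolated. -/
theorem isolated {d c s : G} (hd : d ∈ D) (hc : c ∈ D) (hdc : ¬ Commute d c)
    (hs : s * s = 1) (hsd : Commute s d) (hsc : Commute s c)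
    (hfix : ∀ v : M, d • v = v → c • v = v → s • v = v) (hmove : ∃ v : M, s • v ≠ v)
    {y : G} (hy : y ∈ D) (hyc : Commute y c) (hyd : ¬ Commute y d) : Same M y c := by
  obtain ⟨v, hv⟩ := hmove
  have hfn : ∀ u : M, s • nrm (d * c) u = nrm (d * c) u := fun u =>
    hfix _ (fix_nrm hB hD hd hc hdc u).1 (fix_nrm hB hD hd hc hdc u).2
  have hW : ∀ u : M, ∃ a b : M, u + s • u = mv d a + mv c b := by
    intro u
    obtain ⟨a, b, hab⟩ := decomp hB hD hd hc hdc u
    refine ⟨a + s • a, b + s • b, ?_⟩
    rw [hab, smul_add, smul_add, hfn, smul_mv_of_commute hsd, smul_mv_of_commute hsc, mv_add,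
      mv_add, ← sub_eq_zero]
    abel_nf
    simp [hB.zsmul_even]
  have hW' : ∀ u : M, c • u = u → ∃ b : M, u + s • u = mv c b := by
    intro u hu
    obtain ⟨a, b, hab⟩ := hW u
    refine ⟨b, hab.trans (split_fixed hB hD hd hc hdc ?_)⟩
    rw [← hab, smul_add, hu, ← mul_smul, ← hsc.eq, mul_smul, hu]
  obtain ⟨w, hw⟩ : ∃ w : M, s • mv c w ≠ mv c w := by
    by_contra hall
    push Not at hall
    apply hv
    obtain ⟨a, b, hab⟩ := decomp hB hD hd hc hdc v
    have ha : s • mv d a = mv d a := by
      conv_lhs => rw [← braid hB hD hd hc hdc a]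
      rw [smul_mv_of_commute hsd, hall, braid hB hD hd hc hdc]
    rw [hab, smul_add, smul_add, hfn, ha, hall]
  set α := mv c w with hα
  set α₀ := α + s • α with hα₀
  have hα₀c : α₀ = mv c (w + s • w) := by rw [hα₀, hα, smul_mv_of_commute hsc, mv_add]
  have hne : α₀ ≠ 0 := fun h => hw (hB.eq_iff.2 h).symm
  have hDne : mv d α₀ ≠ 0 := fun h => hne <| by
    rw [hα₀c] at h ⊢
    exact disj hB hD hc hd (fun x => hdc x.symm) (hB.mv_eq_zero.1 h)
  have hsα₀ : s • α₀ = α₀ := by
    rw [hα₀, smul_add, ← mul_smul, hs, one_smul, add_comm]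
  have hr : ∀ a : M, mv d (mv y (mv d a)) = mv d a := fun a =>
    braid hB hD hd hy (fun h => hyd h.symm) a
  have hz0 : mv y (mv d α₀) + s • mv y (mv d α₀) = 0 := by
    obtain ⟨b, hb⟩ := hW' _ (comm_fix hB hD hy hc hyc (mv d α₀))
    rw [hb]
    refine disj hB hD hc hd (fun x => hdc x.symm) (hB.mv_eq_zero.1 ?_)
    rw [← hb, mv_add, ← smul_mv_of_commute hsd, hr, smul_mv_of_commute hsd, hsα₀, hB.two]
  have hy' : s * y * s⁻¹ ∈ D := hD.conj s y hy
  have hsame : Same M y (s * y * s⁻¹) := by
    refine meet hB hD hy hy' (x := mv y (mv d α₀)) ?_ rfl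
      (w := s • mv d α₀) ((mv_conj s y _).trans (hB.eq_iff.2 hz0).symm)
    intro h
    apply hDne
    rw [← hr α₀, h, mv_zero]
  obtain ⟨b, hb⟩ := hW' _ (comm_fix hB hD hy hc hyc (mv d α))
  have hzy : mv y (mv d α) + s • mv y (mv d α) = mv y (mv d α + s • mv d α) := by
    rw [← mv_conj, ← same_mv hsame, mv_add]
  refine meet hB hD hy hc (x := mv c b) ?_ (hzy.symm.trans hb) rfl
  intro h
  rw [h] at hb
  apply hDne
  have h' := congrArg (mv d) hb
  rwa [mv_add, mv_zero, ← smul_mv_of_commute hsd, hr, smul_mv_of_commute hsd, ← mv_add] at h'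

include hB hD in
/-- No transposition in affine position is moved by `s` as by an element of the pair. -/
theorem affine_absurd {d c s x b : G} (hd : d ∈ D) (hc : c ∈ D) (hdc : ¬ Commute d c)
    (hsd : Commute s d) (hsc : Commute s c)
    (hfix : ∀ v : M, d • v = v → c • v = v → s • v = v) (hmove : ∃ v : M, s • v ≠ v)
    (hx : x = 1 ∨ x = c) (hb : b ∈ D) (hbd : ¬ Commute b d) (hbc : ¬ Commute b c)
    (hb3 : ¬ Commute b (c * d * c)) (hsame : Same M (s * b * s⁻¹) (x * b * x⁻¹)) : False := by
  have hc2 := sq_one hB hD hc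
  have hfn : ∀ u : M, s • nrm (d * c) u = nrm (d * c) u := fun u =>
    hfix _ (fix_nrm hB hD hd hc hdc u).1 (fix_nrm hB hD hd hc hdc u).2
  have hW : ∀ u : M, ∃ a a' : M, u + s • u = mv d a + mv c a' := by
    intro u
    obtain ⟨a, a', hab⟩ := decomp hB hD hd hc hdc u
    refine ⟨a + s • a, a' + s • a', ?_⟩
    rw [hab, smul_add, smul_add, hfn, smul_mv_of_commute hsd, smul_mv_of_commute hsc, mv_add,
      mv_add, ← sub_eq_zero]
    abel_nf
    simp [hB.zsmul_even]
  have hb' : x * b * x⁻¹ ∈ D ∧ ¬ Commute (x * b * x⁻¹) d ∧ ¬ Commute (x * b * x⁻¹) c ∧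
      ¬ Commute (x * b * x⁻¹) (c * d * c) := by
    refine ⟨hD.conj x b hb, ?_⟩
    rcases hx with rfl | rfl
    · simp only [one_mul, inv_one, mul_one]; exact ⟨hbd, hbc, hb3⟩
    · rw [ts_inv hD.ts hc]
      refine ⟨fun h => hb3 ?_, fun h => hbc ?_, fun h => hbd ?_⟩ <;>
      · have := (commute_conj_iff x).2 h
        rw [ts_inv hD.ts hc] at this
        simpa [mul_assoc, hc2, reassoc_sq hc2] using this
  have hx1 : ∀ u : M, ∃ a' : M, u + x • u = mv c a' := by
    intro u
    rcases hx with rfl | rfl
    · exact ⟨0, by rw [one_smul, hB.two, mv_zero]⟩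
    · exact ⟨u, rfl⟩
  have hx2 : ∀ u : M, mv c (x • u) = mv c u := by
    intro u
    rcases hx with rfl | rfl
    · rw [one_smul]
    · rw [← smul_mv_of_commute (Commute.refl _), smul_mv_self hc2]
  have hall : ∀ w : M, s • mv c w = mv c w := by
    intro w
    set α := mv c w with hα
    obtain ⟨a, a₁, h1⟩ := hW (mv b α)
    obtain ⟨a₂, h2⟩ := hx1 (mv b α)
    have hz : mv (x * b * x⁻¹) (s • α + x • α) = mv d a + mv c (a₁ + a₂) := by
      rw [mv_add, ← same_mv hsame (s • α), mv_conj, mv_conj, mv_add c, ← add_assoc (mv d a),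
        ← h1, ← h2, ← sub_eq_zero]
      abel_nf
      simp [hB.zsmul_even]
    have h0 := affine_inj hB hD hb'.1 hd hc hb'.2.1 hb'.2.2.1 hdc hb'.2.2.2 hz
    rw [mv_add, ← same_mv hsame (s • α), mv_conj, mv_conj, ← hB.eq_iff] at h0
    have h3 := congrArg (mv c) h0
    rw [← smul_mv_of_commute hsc, hx2, hα, braid hB hD hc hb (fun h => hbc h.symm)] at h3
    exact h3
  obtain ⟨v, hv⟩ := hmove
  apply hv
  obtain ⟨a, a', hab⟩ := decomp hB hD hd hc hdc v
  have ha : s • mv d a = mv d a := by
    conv_lhs => rw [← braid hB hD hd hc hdc a]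
    rw [smul_mv_of_commute hsd, hall, braid hB hD hd hc hdc]
  rw [hab, smul_add, smul_add, hfn, ha, hall]

include hB hD in
theorem smul_comm_of_conj {g : G} (h : ∀ y ∈ D, Same M (g * y * g⁻¹) y) (x : G) (v : M) :
    g • x • v = x • g • v := by
  have hx : x ∈ Subgroup.closure D := by rw [hD.gen]; exact Subgroup.mem_top x
  induction hx using Subgroup.closure_induction generalizing v with
  | mem y hy =>
      rw [← h y hy (g • v)]
      simp only [← mul_smul, inv_mul_cancel_right]
  | one => simp
  | mul a b _ _ iha ihb => rw [mul_smul, mul_smul, iha, ihb]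
  | inv a _ iha =>
      conv_rhs => rw [← smul_inv_smul a v, iha (a⁻¹ • v), inv_smul_smul]

include hB hD hE in
/-- The two classes have the same image on the module. -/
theorem exists_same {e : G} (he : e ∈ E) : ∃ d ∈ D, Same M e d := by
  by_contra hno
  push Not at hno
  have he2 : e * e = 1 := sq_one hB hE he
  have hei : e⁻¹ = e := ts_inv hE.ts he
  by_cases hall : ∀ y ∈ D, Same M y (e * y * e)
  · obtain ⟨v, hv⟩ := hE.moved e he
    exact hv (hB.core e he2 (smul_comm_of_conj hB hD fun y hy => by
      rw [hei]; exact same_symm (hall y hy)) v)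
  push Not at hall
  obtain ⟨d, hd, hdn⟩ := hall
  have hn := (dichotomy hB hD hE hd he).resolve_left hdn
  obtain ⟨hc, hdc, hec, hsd, hcdc, hfix⟩ := triangle hB hD hE hd he hn
  set c := d * (e * d * e) * d with hcdef
  set s := e * c with hs
  have hci : c⁻¹ = c := ts_inv hD.ts hc
  have hmv : ∀ {c : G}, c ∈ D → ∃ v : M, (e * c) • v ≠ v := by
    intro c hc
    by_contra h
    push Not at h
    refine hno c hc fun v => ?_
    conv_lhs => rw [← one_smul G v, ← sq_one hB hD hc, mul_smul c c, ← mul_smul e c, h]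
  have hsq : s * s = 1 := by
    rw [hs, mul_assoc, ← mul_assoc c e c, ← hec.eq, mul_assoc e c c, sq_one hB hD hc, mul_one, he2]
  have hsc : Commute s c := hec.mul_left (Commute.refl c)
  have hd' : e * d * e ∈ D := by have := hD.conj e d hd; rwa [hei] at this
  have hsd' : Commute s (e * d * e) := by
    rw [← hcdc]; exact (hsc.mul_right hsd).mul_right hsc
  have hdc' : ¬ Commute (e * d * e) c := by
    intro h
    rw [← hcdc] at h
    have := (commute_conj_iff c).2 h
    rw [hci] at this
    exact hdc (by simpa [mul_assoc, sq_one hB hD hc, reassoc_sq (sq_one hB hD hc)] using this)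
  have hfix' : ∀ v : M, (e * d * e) • v = v → c • v = v → s • v = v := by
    intro v h1 h2
    refine hfix v ?_ h2
    have e1 : d = c * (e * d * e) * c := by
      rw [← hcdc]
      simp only [mul_assoc, sq_one hB hD hc, mul_one, reassoc_sq (sq_one hB hD hc)]
    rw [e1, mul_smul, mul_smul, h2, h1, h2]
  have hcent : ∀ y ∈ D, Same M (s * y * s⁻¹) y := by
    intro y hy
    have hsy : ∀ {p : G}, Commute s p → Same M y p → Same M (s * y * s⁻¹) y := by
      intro p hp h
      refine same_trans (same_conj s h) ?_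
      rw [hp.eq, mul_inv_cancel_right]
      exact same_symm h
    by_cases hyc : Commute y c
    · by_cases hyd : Commute y d
      · obtain ⟨v, hv⟩ := exists_mv_ne hB hD hy
        refine same_symm (meet hB hD hy (hD.conj s y hy) (w := s • v) hv rfl ?_)
        rw [mv_conj]
        exact hfix _ (comm_fix hB hD hy hd hyd v) (comm_fix hB hD hy hc hyc v)
      · exact hsy hsc (isolated hB hD hd hc hdc hsq hsd hsc hfix (hmv hc) hy hyc hyd)
    by_cases hyd : Commute y d
    · exact hsy hsd (isolated hB hD hc hd (fun h => hdc h.symm) hsq hsc hsd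
        (fun v a b => hfix v b a) (hmv hc) hy hyd hyc)
    by_cases hy3 : Commute y (e * d * e)
    · exact hsy hsd' (isolated hB hD hc hd' (fun h => hdc' h.symm) hsq hsc hsd'
        (fun v a b => hfix' v b a) (hmv hc) hy hy3 hyc)
    exfalso
    have absurd' : ∀ {b x : G}, (x = 1 ∨ x = c) → b ∈ D → ¬ Commute b d → ¬ Commute b c →
        ¬ Commute b (e * d * e) → Same M (s * b * s⁻¹) (x * b * x⁻¹) → False :=
      fun hx hb h1 h2 h3 h => affine_absurd hB hD hd hc hdc hsd hsc hfix (hmv hc) hx hb h1 h2
        (by rw [hcdc]; exact h3) h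
    have hstwist : ∀ b : G, s * b * s⁻¹ = c * (e * b * e) * c⁻¹ := by
      intro b
      rw [hs, hec.eq, mul_inv_rev, hei]
      simp only [mul_assoc]
    rcases dichotomy hB hD hE hy he with h | h
    · refine absurd' (Or.inr rfl) hy hyd hyc hy3 ?_
      rw [hstwist]
      exact same_conj c (same_symm h)
    obtain ⟨hc₁, hyc₁, hec₁, hs₁y, -, hfix₁⟩ := triangle hB hD hE hy he h
    set c₁ := y * (e * y * e) * y with hc₁def
    have hs₁sq : e * c₁ * (e * c₁) = 1 := by
      rw [mul_assoc, ← mul_assoc c₁ e c₁, ← hec₁.eq, mul_assoc e c₁ c₁, sq_one hB hD hc₁,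
        mul_one, he2]
    have hec₁e : e * c₁ * e = c₁ := by rw [hec₁.eq, mul_assoc, he2, mul_one]
    by_cases hcc : Commute c c₁
    · have hsame := isolated hB hD hy hc₁ hyc₁ hs₁sq hs₁y (hec₁.mul_left (Commute.refl c₁))
        hfix₁ (hmv hc₁) hc hcc (fun x => hyc x.symm)
      refine absurd' (Or.inl rfl) hy hyd hyc hy3 fun v => ?_
      have hseq : ∀ u : M, s • u = (e * c₁) • u := fun u => by
        rw [hs, mul_smul e c, mul_smul e c₁, hsame]
      have hsi : ∀ u : M, s⁻¹ • u = (e * c₁)⁻¹ • u := fun u => by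
        rw [inv_eq_of_mul_eq_one_right hsq, inv_eq_of_mul_eq_one_right hs₁sq]; exact hseq u
      rw [one_mul, inv_one, mul_one, mul_smul (s * y) s⁻¹, mul_smul s y, hsi, hseq,
        ← mul_smul (e * c₁) y, ← mul_smul (e * c₁ * y), hs₁y.eq, mul_inv_cancel_right]
    have hnd : ¬ Same M d (e * d * e) := hdn
    by_cases h1 : Commute c₁ d
    · have hsame := isolated hB hD hc hd (fun h => hdc h.symm) hsq hsc hsd
        (fun v a b => hfix v b a) (hmv hc) hc₁ h1 (fun x => hcc x.symm)
      refine hnd (same_trans (same_symm hsame) ?_)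
      have := same_conj e hsame
      rwa [hei, hec₁e] at this
    by_cases h2 : Commute c₁ (e * d * e)
    · have hsame := isolated hB hD hc hd' (fun h => hdc' h.symm) hsq hsc hsd'
        (fun v a b => hfix' v b a) (hmv hc) hc₁ h2 (fun x => hcc x.symm)
      refine hnd (same_trans ?_ hsame)
      have := same_conj e hsame
      rw [hei, hec₁e] at this
      rw [show e * (e * d * e) * e = d by simp only [mul_assoc, he2, mul_one, reassoc_sq he2]]
        at this
      exact same_symm this
    refine absurd' (Or.inr rfl) hc₁ h1 (fun x => hcc x.symm) h2 ?_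
    rw [hstwist, hec₁e]
    exact fun v => rfl
  obtain ⟨v, hv⟩ := hmv hc
  exact hv (hB.core s hsq (smul_comm_of_conj hB hD hcent) v)

end CfsgLib.CharsMore.ThreeClassUnique
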